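import Cfsg.Agent.H364.OutLie
import Cfsg.Agent.H357.EP.Signs_m3
import Cfsg.Agent.OrdDiv.Table
import Cfsg.Agent.S2654
import Cfsg.Agent.S2655
import Cfsg.Agent.S2656
import Cfsg.Agent.S2657
import Cfsg.Agent.S2659
import Cfsg.Agent.Prune
set_option linter.all false

section
prune_inst 0x7f00000000000000000000000000000000000000000000000000000000000000000000000000000000000000000000000000000000000000000000000000000000000000000000000000000000000000003fffffffffffffffffffffffffffbeffbdffffffff

-- part: H889/Enum/Aut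
section
set_option linter.all false
open scoped Cfsg.Agent.FastGrp

/-!
# S5745, layer ENUM: the exact order of `Aut T`
-/

set_option autoImplicit false

namespace Cfsg.Agent.H889.Enum

open Cfsg Cfsg.Agent.OrdDiv Finset
open Cfsg.Agent.H902 Cfsg.Agent.H902.Names Cfsg.Agent.H934.OutB Cfsg.Agent.H364.OutLie

universe u

/-- `|Out T|` -/
def ou : Art.Sh → ℕ → ℕ → ℕ
  | .L n, p, f => (if n = 2 then 1 else 2) * Nat.gcd n (p ^ f - 1) * f
  | .C n, p, f => (if n = 2 ∧ p = 2 then 2 else 1) * Nat.gcd 2 (p ^ f - 1) * f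
  | .U n, p, f => 2 * Nat.gcd n (p ^ f + 1) * f
  | .D n, p, f => ((if n = 4 then 3 else 1) *
      (if p = 2 then 2 else (if (n * (p ^ f - 1) / 2) % 2 = 0 then 8 else 4))) * f
  | .DD n, p, f => (if p = 2 then 2 else (if (n * (p ^ f - 1) / 2) % 2 = 0 then 4 else 8)) * f
  | .G2, p, f => (if p = 3 then 2 else 1) * f
  | .F4, p, f => Nat.gcd 2 p * f
  | .E6, p, f => 2 * Nat.gcd 3 (p ^ f - 1) * f
  | .E7, p, f => Nat.gcd 2 (p ^ f - 1) * f
  | .E8, _, f => 1 * f
  | .TE6, p, f => 2 * Nat.gcd 3 (p ^ f + 1) * f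
  | .TD4, _, f => 3 * f
  | .Sz, _, f => 1 * f
  | .Ree, _, f => 1 * f
  | .TF4, _, f => 1 * f

theorem card_aut {S : Type u} [Group S] [Finite S] [IsSimpleGroup S] (hna : ¬ ∀ a b : S, a * b = b * a)
    {g : Grp} {X : Art.Sh} {p f : ℕ} (hg : IsLie g X p f) (h : OrdDiv.Real g S) (hr : Art.Real X p f (Nat.card S)) :
    Nat.card (MulAut S) = ou X p f * Nat.card S := by
  have hna' : ¬ IsMulCommutative S := fun hc => hna fun a b => hc.is_comm.comm a b
  have key : ∀ n, Nat.card (Cfsg.Out S) = n → Nat.card (MulAut S) = n * Nat.card S := by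
    rintro n rfl
    exact (card_out_mul S hna').symm
  obtain ⟨hp, hf, hok, -⟩ := hr
  have hpf := Fact.mk hp
  cases hg with
  | psl n p f =>
    obtain ⟨F, _, _, hF, ⟨e⟩⟩ := h
    have h1 := Cfsg.Agent.S0813.result p f hf hF n hok.1 hok.2
    rw [card_pgl hok.1, hF] at h1
    rw [mulaut_congr e, h1, Nat.card_congr e.toEquiv, ou]
    ring
  | psp n p f =>
    obtain ⟨F, _, _, hF, ⟨e⟩⟩ := h
    have h1 := Cfsg.Agent.S0814.result p f hf hF n hok.1 hok.2
    rw [mulaut_congr e, h1, Nat.card_congr e.toEquiv, ou]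
  | oodd n p f hn ho =>
    obtain ⟨F, _, _, hF, ⟨e⟩⟩ := h
    have hpo : Odd p := by
      rcases hp.eq_two_or_odd' with h | h
      · subst h
        exact absurd ho (by rw [Nat.not_odd_iff_even]; exact (even_two.pow_of_ne_zero (by omega)))
      · exact h
    have h1 := Cfsg.Agent.S0816.result p f hf hF hpo n hn
    have h3 : Nat.gcd 2 (p ^ f - 1) = 2 := by
      apply Nat.gcd_eq_left
      obtain ⟨k, hk⟩ := ho
      rw [hk]
      exact ⟨k, by omega⟩
    rw [mulaut_congr e, h1, Nat.card_congr e.toEquiv, ou, h3, if_neg (by omega), one_mul]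
  | psu n p f =>
    obtain ⟨F, _, _, hF, ⟨e⟩⟩ := h
    have h1 := Cfsg.Agent.S0815.result p f hf rfl hF n hok.1 (fun h => by have := hok.2 h.1; omega)
    rw [mulaut_congr e, h1, Nat.card_congr e.toEquiv, ou]
    ring
  | oplus n p f =>
    obtain ⟨F, _, _, hF, ⟨e⟩⟩ := h
    have h1 := Cfsg.Agent.S0817.result p f hf hF n hok
    rw [mulaut_congr e, h1, Nat.card_congr e.toEquiv, ou]
    simp only [Nat.even_iff]
  | ominus n p f =>
    obtain ⟨F, _, _, a, b, hF, hab, ⟨e⟩⟩ := h
    have h1 := Cfsg.Agent.S0818.result p f hf hF n hok a b hab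
    rw [mulaut_congr e, h1, Nat.card_congr e.toEquiv, ou]
    simp only [Nat.even_iff]
  | g2 p f =>
    obtain ⟨F, _, _, hF, ⟨e⟩⟩ := h
    have := charP_of_card hp hf hF
    have h1 := Cfsg.Agent.S2121.result p f hF hok
    refine key _ ?_
    rw [card_out_congr e, h1, ou]
    split_ifs <;> ring
  | f4 p f =>
    obtain ⟨F, _, _, hF, ⟨e⟩⟩ := h
    have := charP_of_card hp hf hF
    exact key _ (by rw [card_out_congr e, Cfsg.Agent.S2122.result p f hF, ou])
  | e6 p f =>
    obtain ⟨F, _, _, hF, ⟨e⟩⟩ := h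
    have := charP_of_card hp hf hF
    exact key _ (by rw [card_out_congr e, Cfsg.Agent.S2123.result p f hF, ou])
  | e7 p f =>
    obtain ⟨F, _, _, hF, ⟨e⟩⟩ := h
    have := charP_of_card hp hf hF
    exact key _ (by rw [card_out_congr e, Cfsg.Agent.S2124.result p f hF, ou])
  | e8 p f =>
    obtain ⟨F, _, _, hF, ⟨e⟩⟩ := h
    have := charP_of_card hp hf hF
    exact key _ (by rw [card_out_congr e, Cfsg.Agent.S2125.result p f hF, ou, one_mul])
  | te6 p f =>
    obtain ⟨F, _, _, hF, ⟨e⟩⟩ := h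
    have hF' : Fintype.card F = p ^ (2 * f) := by rw [hF, ← pow_mul, mul_comm]
    have := charP_of_card hp (by omega) hF'
    exact key _ (by rw [card_out_congr e, Cfsg.Agent.S2130.result p f hF' hf, ou])
  | td4 p f =>
    obtain ⟨F, _, _, hF, ⟨e⟩⟩ := h
    have hF' : Fintype.card F = p ^ (3 * f) := by rw [hF, ← pow_mul, mul_comm]
    have := charP_of_card hp (by omega) hF'
    exact key _ (by rw [card_out_congr e, Cfsg.Agent.S2129.result p f hF' hf, ou])
  | sz p f =>
    obtain ⟨F, _, _, m, hm, hF, hq, ⟨e⟩⟩ := h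
    obtain ⟨rfl, -, -⟩ := hok
    have hfm : f = 2 * m + 1 := Nat.pow_right_injective (le_refl 2) hq
    exact key _ (by rw [card_out_congr e, Cfsg.Agent.S2126.result hm (hF.trans hq), ou, one_mul, hfm])
  | ree p f =>
    obtain ⟨F, _, _, m, hm, hF, hq, ⟨e⟩⟩ := h
    obtain ⟨rfl, -, -⟩ := hok
    have hfm : f = 2 * m + 1 := Nat.pow_right_injective (by norm_num : 2 ≤ 3) hq
    exact key _ (by rw [card_out_congr e, Cfsg.Agent.S2127.result hm (hF.trans hq), ou, one_mul, hfm])
  | tf4 p f =>
    obtain ⟨F, _, _, m, hm, hF, hq, ⟨e⟩⟩ := h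
    obtain ⟨rfl, -, -⟩ := hok
    have hfm : f = 2 * m + 1 := Nat.pow_right_injective (le_refl 2) hq
    exact key _ (by rw [card_out_congr e, Cfsg.Agent.S2128.result hm (hF.trans hq), ou, one_mul, hfm])

end Cfsg.Agent.H889.Enum

private theorem dce_aaf42e183456 : _root_.True := by
  try have : _root_.True := by simp only [_root_.Cfsg.Agent.H889.Enum.ou.eq_7]
  try have : _root_.True := by simp only [_root_.Cfsg.Agent.H889.Enum.ou.eq_9]
  try have : _root_.True := by simp only [_root_.Cfsg.Agent.H889.Enum.ou.eq_3]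
  try have : _root_.True := by simp only [_root_.Cfsg.Agent.H889.Enum.ou.eq_2]
  try have : _root_.True := by simp only [_root_.Cfsg.Agent.H889.Enum.ou.eq_5]
  try have : _root_.True := by simp only [_root_.Cfsg.Agent.H889.Enum.ou.eq_1]
  try have : _root_.True := by simp only [_root_.Cfsg.Agent.H889.Enum.ou.eq_6]
  try have : _root_.True := by simp only [_root_.Cfsg.Agent.H889.Enum.ou.eq_4]
  try have : _root_.True := by simp only [_root_.Cfsg.Agent.H889.Enum.ou.eq_8]
  try have : _root_.True := by simp only [_root_.Cfsg.Agent.H889.Enum.ou.eq_11]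
  try have : _root_.True := by simp only [_root_.Cfsg.Agent.H889.Enum.ou.eq_15]
  try have : _root_.True := by simp only [_root_.Cfsg.Agent.H889.Enum.ou.eq_10]
  try have : _root_.True := by simp only [_root_.Cfsg.Agent.H889.Enum.ou.eq_14]
  try have : _root_.True := by simp only [_root_.Cfsg.Agent.H889.Enum.ou.eq_13]
  try have : _root_.True := by simp only [_root_.Cfsg.Agent.H889.Enum.ou.eq_12]
  exact _root_.True.intro
end

-- part: H889/Enum/Base
section
set_option linter.all false

/-!
# S5745, layer ENUM: the frame of the cross cells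

* `emb e` : the injection `T →* G` for `e : N ≃* (Fin 1 → T)`;
* `cross_base` : `Cross p G` from the three kinds of socles (alternating, Tits, names in the region);
* `alt_le_e8 …` : the alternating subgroups of the models.
-/

set_option autoImplicit false

namespace Cfsg.Agent.H889.Enum

open Cfsg Cfsg.Agent.OrdDiv Cfsg.Agent.H902 Cfsg.Agent.H902.Names Cfsg.Agent.H290.ElReg
open Cfsg.Agent.H209.EPX Cfsg.Agent.H542.EPX

/-- the injection of the socle -/
def emb {G : Type} [Group G] {N : Subgroup G} {T : Type} [Group T] (e : N ≃* (Fin 1 → T)) : T →* G :=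
  N.subtype.comp ((e.trans (MulEquiv.funUnique (Fin 1) T)).symm.toMonoidHom)

theorem emb_injective {G : Type} [Group G] {N : Subgroup G} {T : Type} [Group T] (e : N ≃* (Fin 1 → T)) :
    Function.Injective (emb e) :=
  N.subtype_injective.comp (e.trans (MulEquiv.funUnique (Fin 1) T)).symm.injective

theorem finite_of {G : Type} [Group G] [Finite G] {N : Subgroup G} {T : Type} [Group T] (e : N ≃* (Fin 1 → T)) :
    Finite T := Finite.of_injective _ (emb_injective e)

/-- the known simple groups at `Type` -/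
def AllK : Prop := ∀ (X : Type) [Group X] [Finite X], IsSimpleGroup X → IsKnownSimple' X

/-- **The frame**: `Cross p G` from the three kinds of socles. -/
theorem cross_base (hK : AllK) {D p : ℕ} [Fact p.Prime] (hD : D ≤ 248) {F : Type} [Field F] [CharP F p] {G : Type}
    [Group G] [Finite G] (hG : Fth D F G)
    (halt : ∀ (H N : Subgroup G) (T : Type) [Group T] [Finite T] (e : N ≃* (Fin 1 → T)), EPS H N e → ∀ n, 5 ≤ n →
      Nonempty (T ≃* alternatingGroup (Fin n)) → ¬ IsLieTypeChar p T → False)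
    (htits : ∀ (H N : Subgroup G) (T : Type) [Group T] [Finite T] (e : N ≃* (Fin 1 → T)), EPS H N e →
      Lie.IsoTits T → False)
    (hreg : ∀ (H N : Subgroup G) (T : Type) [Group T] [Finite T] (e : N ≃* (Fin 1 → T)), EPS H N e →
      InReg D p T → False) : Cross p G := by
  intro H N T _ e h hsp hL
  have hT : Finite T := finite_of e
  have hs : IsSimpleGroup T := h.simple
  have hna : ¬ ∀ a b : T, a * b = b * a := by
    obtain ⟨a, b, hab⟩ := h.nab
    exact fun hc => hab (hc a b)
  rcases cross_lie table hD hna (hK T hs) (fth_of hG (emb_injective e)) hL with h1 | h1 | h1 | h1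
  · obtain ⟨n, hn, he⟩ := h1
    exact halt H N T e h n hn he hL
  · exact htits H N T e h h1
  · exact hsp h1
  · exact hreg H N T e h h1

/-! ### alternating subgroups of the models -/

theorem quot_bot {G T : Type} [Group G] [Group T] {n : ℕ} {f : T →* G} (hf : Function.Injective f)
    (h : Nonempty (T ≃* alternatingGroup (Fin n))) :
    Nonempty (↥f.range ⧸ (⊥ : Subgroup ↥f.range) ≃* ↥(alternatingGroup (Fin n))) := by
  obtain ⟨e⟩ := h
  exact ⟨(QuotientGroup.quotientBot).trans ((MonoidHom.ofInjective hf).symm.trans e)⟩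

section models

variable {F : Type} [Field F] [Fintype F] {p : ℕ} [Fact p.Prime] [CharP F p] {T : Type} [Group T] {n : ℕ}

theorem alt_le_e8 {f : T →* ↥(Lie.chevE8.group F)} (hf : Function.Injective f)
    (h : Nonempty (T ≃* alternatingGroup (Fin n))) : n ≤ 17 + (if p = 3 then 1 else 0) :=
  Cfsg.Agent.S2654.result p n f.range ⊥ (quot_bot hf h)

theorem alt_le_e7 {f : T →* ↥(Lie.chevE7.group F)} (hf : Function.Injective f)
    (h : Nonempty (T ≃* alternatingGroup (Fin n))) : n ≤ 13 + (if p = 7 then 1 else 0) :=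
  Cfsg.Agent.S2655.result p n f.range ⊥ (quot_bot hf h)

theorem alt_le_e6 {f : T →* ↥(Lie.chevE6.group F)} (hf : Function.Injective f)
    (h : Nonempty (T ≃* alternatingGroup (Fin n))) : n ≤ 11 + (if p = 2 ∨ p = 3 ∨ p = 5 then 1 else 0) :=
  Cfsg.Agent.S2656.result p n f.range ⊥ (quot_bot hf h)

theorem alt_le_f4 {f : T →* ↥(Lie.chevF4.group F)} (hf : Function.Injective f)
    (h : Nonempty (T ≃* alternatingGroup (Fin n))) : n ≤ 10 + (if p = 11 then 1 else 0) :=
  Cfsg.Agent.S2657.result p n f.range ⊥ (quot_bot hf h)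

theorem alt_le_te6 {a : ℕ} (ha : 1 ≤ a) (hF : Fintype.card F = (p ^ a) ^ 2)
    {f : T →* ↥(Lie.twistedE6 F (p ^ a))} (hf : Function.Injective f)
    (h : Nonempty (T ≃* alternatingGroup (Fin n))) : n ≤ 11 + (if p = 2 ∨ p = 3 ∨ p = 5 then 1 else 0) :=
  Cfsg.Agent.S2659.result p a ha hF n f.range ⊥ (quot_bot hf h)

end models

end Cfsg.Agent.H889.Enum
end
end
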